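import Groth.Agent.Lib.CI2.KRStep
import Groth.Agent.Lib.Cyc26.KoszulH1
import Groth.Agent.Lib.RegSeq26.FlatBC
import Groth.Prelude.Def_CAlgX
import Mathlib.RingTheory.Smooth.Kaehler
import Mathlib.RingTheory.Etale.Kaehler
import Mathlib.RingTheory.Kaehler.JacobiZariski
import Mathlib.RingTheory.Kaehler.Polynomial
import Mathlib.RingTheory.Smooth.Local
import Mathlib.LinearAlgebra.TensorProduct.Basis

/-!
Ranks of the cotangent modules of a composite of two local extensions with `H₁`-regular kernels.
-/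

set_option autoImplicit false
set_option backward.isDefEq.respectTransparency.types false
set_option linter.style.haveILetI false
universe u

open TensorProduct

namespace Groth.Agent.SyntRank2

/-- A generating family whose quadratic relations have coefficients in the kernel is a basis of `ker / ker²`. -/
theorem nonempty_cotangent_equiv_of_gen {R S : Type u} [CommRing R] [CommRing S] [Algebra R S]
    (E : Algebra.Extension.{u} R S) {ι : Type} [Fintype ι] (g : ι → E.Ring) (hspan : E.ker = Ideal.span (Set.range g))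
    (hcoef : ∀ a : ι → E.Ring, ∑ k, a k * g k ∈ E.ker ^ 2 → ∀ k, a k ∈ E.ker) :
    Nonempty (E.Cotangent ≃ₗ[S] (ι → S)) := by
  classical
  let gk : ι → E.ker := fun k => ⟨g k, hspan.symm ▸ Ideal.subset_span ⟨k, rfl⟩⟩
  let Φ : (ι → S) →ₗ[S] E.Cotangent := Fintype.linearCombination S fun k => Algebra.Extension.Cotangent.mk (gk k)
  have key : ∀ a : ι → E.Ring, Φ (fun k => algebraMap E.Ring S (a k)) =
      Algebra.Extension.Cotangent.mk (∑ k, a k • gk k) := fun a => by
    rw [Fintype.linearCombination_apply, map_sum]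
    refine Finset.sum_congr rfl fun k _ => ?_
    rw [map_smul, algebraMap_smul]
  refine ⟨(LinearEquiv.ofBijective Φ ⟨(injective_iff_map_eq_zero _).2 fun v hv => ?_, fun y => ?_⟩).symm⟩
  · choose a ha using fun k => E.algebraMap_surjective (v k)
    have hv' : Φ (fun k => algebraMap E.Ring S (a k)) = 0 := by simpa only [ha] using hv
    rw [key, Algebra.Extension.Cotangent.mk_eq_zero_iff] at hv'
    funext k
    rw [← ha k]
    exact hcoef a (by simpa [gk] using hv') k
  · obtain ⟨⟨m, hm⟩, rfl⟩ := Algebra.Extension.Cotangent.mk_surjective y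
    obtain ⟨a, ha⟩ := Ideal.mem_span_range_iff_exists_fun.1 (hspan ▸ hm)
    exact ⟨fun k => algebraMap E.Ring S (a k), by rw [key]; congr 1; ext; simpa [gk] using ha⟩

theorem span_relations_le {R : Type u} [CommRing R] {c : ℕ} (f : Fin c → R) {K : Ideal R} (hK : ∀ k, f k ∈ K) :
    Submodule.span R {v : Fin c → R | ∃ i j : Fin c, v = Pi.single i (f j) - Pi.single j (f i)} ≤
      Submodule.pi Set.univ (fun _ : Fin c => (K : Submodule R R)) := by
  classical
  refine Submodule.span_le.2 ?_
  rintro _ ⟨i, j, rfl⟩ k -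
  simp only [Pi.sub_apply, Pi.single_apply]
  refine sub_mem ?_ ?_ <;> split_ifs <;> first | exact hK _ | exact zero_mem _

/-- The coefficients of a quadratic relation between `H₁`-regular elements. -/
theorem coeff_of_h1 {R : Type u} [CommRing R] {c : ℕ} (f : Fin c → R) (hf : CAlgX.IsH1Regular f)
    (K : Ideal R) (hK : ∀ k, f k ∈ K) (a : Fin c → R) (ha : ∑ k, a k * f k ∈ K * Ideal.span (Set.range f)) :
    ∀ k, a k ∈ K := by
  classical
  rw [← smul_eq_mul, Submodule.mem_ideal_smul_span_iff_exists_sum] at ha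
  obtain ⟨b, hb, hsum⟩ := ha
  have h0 : ∑ k, (a k - b k) * f k = 0 := by
    simp only [sub_mul, Finset.sum_sub_distrib]
    rw [← hsum, Finsupp.sum_fintype b (fun i c => c • f i) (fun _ => zero_smul _ _)]
    simp [smul_eq_mul]
  have hm := span_relations_le f hK (hf _ h0)
  intro k
  simpa using add_mem (hm k trivial) (hb k)

theorem inf_mul_le {R S : Type u} [CommRing R] [CommRing S] (p : R →+* S) (hp : Function.Surjective p)
    {c : ℕ} (g : Fin c → S) (hg : CAlgX.IsH1Regular g) (K : Ideal R)
    (hK : K = (Ideal.span (Set.range g)).comap p) {x : R} (hx : x ∈ RingHom.ker p) (hx2 : x ∈ K * K) :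
    x ∈ RingHom.ker p * K := by
  classical
  choose G hG using fun k => hp (g k)
  have hGK : ∀ k, G k ∈ K := fun k => by
    rw [hK, Ideal.mem_comap, hG]; exact Ideal.subset_span ⟨k, rfl⟩
  have hdec : ∀ b ∈ K, ∃ b₀ ∈ RingHom.ker p, ∃ v : Fin c → R, b = b₀ + ∑ k, v k * G k := by
    intro b hb
    rw [hK, Ideal.mem_comap] at hb
    obtain ⟨u, hu⟩ := Ideal.mem_span_range_iff_exists_fun.1 hb
    choose v hv using fun k => hp (u k)
    exact ⟨b - ∑ k, v k * G k, by simp [RingHom.mem_ker, hv, hG, hu], v, by ring⟩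
  have hdec2 : ∀ y ∈ K * K, ∃ w ∈ RingHom.ker p * K, ∃ v : Fin c → R, (∀ k, v k ∈ K) ∧ y = w + ∑ k, v k * G k := by
    intro y hy
    induction hy using Submodule.mul_induction_on' with
    | mem_mul_mem a ha b hb =>
      obtain ⟨b₀, hb₀, v, rfl⟩ := hdec b hb
      refine ⟨b₀ * a, Ideal.mul_mem_mul hb₀ ha, fun k => a * v k, fun k => K.mul_mem_right _ ha, ?_⟩
      rw [mul_add, mul_comm a b₀, Finset.mul_sum]
      simp only [mul_assoc]
    | add a _ b _ ha hb =>
      obtain ⟨w, hw, v, hv, rfl⟩ := ha
      obtain ⟨w', hw', v', hv', rfl⟩ := hb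
      refine ⟨w + w', add_mem hw hw', v + v', fun k => add_mem (hv k) (hv' k), ?_⟩
      simp only [Pi.add_apply, add_mul, Finset.sum_add_distrib]
      abel
  obtain ⟨w, hw, v, hv, rfl⟩ := hdec2 x hx2
  have hw0 : p w = 0 := Ideal.mul_le_left hw
  have hsum : ∑ k, p (v k) * g k = 0 := by
    simpa [RingHom.mem_ker, hw0, hG] using hx
  have hlift : ∀ u ∈ Submodule.span S {v : Fin c → S | ∃ i j : Fin c, v = Pi.single i (g j) - Pi.single j (g i)},
      ∃ U : Fin c → R, (∀ k, p (U k) = u k) ∧ ∑ k, U k * G k ∈ RingHom.ker p * K := by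
    intro u hu
    induction hu using Submodule.span_induction with
    | mem u hu =>
      obtain ⟨i, j, rfl⟩ := hu
      refine ⟨Pi.single i (G j) - Pi.single j (G i), fun k => ?_, ?_⟩
      · simp [Pi.single_apply, apply_ite p, hG]
      · simp [Pi.single_apply, sub_mul, ite_mul, mul_comm (G j)]
    | zero => exact ⟨0, fun k => map_zero p, by simp⟩
    | add a b _ _ ha hb =>
      obtain ⟨U, hU, hU'⟩ := ha
      obtain ⟨V, hV, hV'⟩ := hb
      exact ⟨U + V, fun k => by simp [hU, hV], by
        simp only [Pi.add_apply, add_mul, Finset.sum_add_distrib]; exact add_mem hU' hV'⟩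
    | smul s a _ ha =>
      obtain ⟨U, hU, hU'⟩ := ha
      obtain ⟨r, rfl⟩ := hp s
      refine ⟨r • U, fun k => by simp [hU], ?_⟩
      simp only [Pi.smul_apply, smul_eq_mul, mul_assoc, ← Finset.mul_sum]
      exact Ideal.mul_mem_left _ _ hU'
  obtain ⟨U, hU, hU'⟩ := hlift _ (hg _ hsum)
  have e : ∑ k, v k * G k = ∑ k, (v k - U k) * G k + ∑ k, U k * G k := by
    rw [← Finset.sum_add_distrib]; simp [← add_mul]
  rw [e]
  exact add_mem hw (add_mem (Ideal.sum_mem _ fun k _ =>
    Ideal.mul_mem_mul (by simp [RingHom.mem_ker, hU]) (hGK k)) hU')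

/-- Two steps of `H₁`-regular kernels give a basis of the conormal module of the composite. -/
theorem nonempty_cotangent_equiv_comp {S Q P' : Type u} [CommRing S] [CommRing Q] [CommRing P'] [Algebra S Q]
    (E : Algebra.Extension.{u} S Q) (π : E.Ring →+* P') (hπ : Function.Surjective π) (α : P' →+* Q)
    (hα : α.comp π = algebraMap E.Ring Q) {r c : ℕ} (f : Fin r → E.Ring) (hf : CAlgX.IsH1Regular f)
    (hkf : RingHom.ker π = Ideal.span (Set.range f)) (g : Fin c → P') (hg : CAlgX.IsH1Regular g)
    (hkg : RingHom.ker α = Ideal.span (Set.range g)) :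
    Nonempty (E.Cotangent ≃ₗ[Q] (Fin (c + r) → Q)) := by
  classical
  choose G hG using fun k => hπ (g k)
  have hJ : E.ker = (Ideal.span (Set.range g)).comap π := by
    rw [← hkg, RingHom.comap_ker, hα]
  have hkJ : RingHom.ker π ≤ E.ker := fun x hx => by
    rw [hJ, Ideal.mem_comap, show π x = 0 from hx]; exact zero_mem _
  have hspan : E.ker = Ideal.span (Set.range (Sum.elim G f)) := by
    refine le_antisymm (fun x hx => ?_) (Ideal.span_le.2 ?_)
    · rw [hJ, Ideal.mem_comap] at hx
      obtain ⟨u, hu⟩ := Ideal.mem_span_range_iff_exists_fun.1 hx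
      choose v hv using fun k => hπ (u k)
      have h1 : x - ∑ k, v k * G k ∈ RingHom.ker π := by simp [RingHom.mem_ker, hv, hG, hu]
      rw [hkf] at h1
      rw [Set.Sum.elim_range, Ideal.span_union, ← sub_add_cancel x (∑ k, v k * G k)]
      exact add_mem (Submodule.mem_sup_right h1)
        (Submodule.mem_sup_left (Ideal.sum_mem _ fun k _ => Ideal.mul_mem_left _ _ (Ideal.subset_span ⟨k, rfl⟩)))
    · rintro _ ⟨k | k, rfl⟩
      · rw [SetLike.mem_coe, hJ, Ideal.mem_comap, Sum.elim_inl, hG]; exact Ideal.subset_span ⟨k, rfl⟩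
      · exact hkJ (hkf ▸ Ideal.subset_span ⟨k, rfl⟩)
  refine (nonempty_cotangent_equiv_of_gen E (Sum.elim G f) hspan fun a ha => ?_).map fun e =>
    e.trans (LinearEquiv.funCongrLeft Q Q finSumFinEquiv.symm)
  rw [Fintype.sum_sum_type] at ha
  simp only [Sum.elim_inl, Sum.elim_inr] at ha
  have hgK : ∀ k, g k ∈ Ideal.span (Set.range g) := fun k => Ideal.subset_span ⟨k, rfl⟩
  have hb : ∀ k, a (Sum.inl k) ∈ E.ker := by
    have h1 := Ideal.mem_map_of_mem π ha
    rw [Ideal.map_pow, hJ, Ideal.map_comap_of_surjective π hπ, pow_two, map_add, map_sum, map_sum,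
      Finset.sum_eq_zero (s := Finset.univ) (f := fun k => π (a (Sum.inr k) * f k)) (fun k _ => by
        rw [map_mul, show π (f k) = 0 from (hkf ▸ Ideal.subset_span ⟨k, rfl⟩ : f k ∈ RingHom.ker π), mul_zero]),
      add_zero] at h1
    simp only [map_mul, hG] at h1
    intro k
    rw [hJ, Ideal.mem_comap]
    exact coeff_of_h1 g hg _ hgK _ h1 k
  have hf2 : ∑ k, a (Sum.inr k) * f k ∈ RingHom.ker π * E.ker := by
    refine inf_mul_le π hπ g hg E.ker hJ (Ideal.sum_mem _ fun k _ => Ideal.mul_mem_left _ _ (hkf ▸ Ideal.subset_span ⟨k, rfl⟩)) ?_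
    rw [← pow_two]
    refine (Ideal.add_mem_iff_right _ ?_).1 ha
    rw [pow_two]
    exact Ideal.sum_mem _ fun k _ => Ideal.mul_mem_mul (hb k) (hspan ▸ Ideal.subset_span ⟨Sum.inl k, rfl⟩)
  rw [mul_comm, hkf] at hf2
  rintro (k | k)
  · exact hb k
  · exact coeff_of_h1 f hf E.ker (fun k => hkJ (hkf ▸ Ideal.subset_span ⟨k, rfl⟩)) (fun k => a (Sum.inr k)) hf2 k

/-- One step of an `H₁`-regular kernel. -/
theorem nonempty_cotangent_equiv_h1 {S Q : Type u} [CommRing S] [CommRing Q] [Algebra S Q]
    (E : Algebra.Extension.{u} S Q) {c : ℕ} (g : Fin c → E.Ring) (hg : CAlgX.IsH1Regular g)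
    (hkg : E.ker = Ideal.span (Set.range g)) : Nonempty (E.Cotangent ≃ₗ[Q] (Fin c → Q)) :=
  nonempty_cotangent_equiv_of_gen E g hkg fun a ha => by
    rw [pow_two] at ha
    nth_rw 2 [hkg] at ha
    exact coeff_of_h1 g hg E.ker (fun k => hkg ▸ Ideal.subset_span ⟨k, rfl⟩) a ha

/-- Differentials of a tower of formally smooth algebras with free differentials. -/
theorem nonempty_basis_kaehler_trans (S R P : Type u) [CommRing S] [CommRing R] [CommRing P] [Algebra S R]
    [Algebra R P] [Algebra S P] [IsScalarTower S R P] [Algebra.FormallySmooth R P] {m n : ℕ}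
    (b : Module.Basis (Fin m) R (KaehlerDifferential S R)) (b' : Module.Basis (Fin n) P (KaehlerDifferential R P)) :
    Nonempty (Module.Basis (Fin (m + n)) P (KaehlerDifferential S P)) := by
  haveI : Module.Projective P (KaehlerDifferential R P) := Module.Projective.of_basis b'
  have hinj : Function.Injective (KaehlerDifferential.mapBaseChange S R P) := by
    rw [injective_iff_map_eq_zero]
    intro x hx
    obtain ⟨y, rfl⟩ := (Algebra.H1Cotangent.exact_δ_mapBaseChange S R P x).1 hx
    rw [Subsingleton.elim y 0, map_zero]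
  have hex := KaehlerDifferential.exact_mapBaseChange_map S R P
  obtain ⟨l, hl⟩ := Module.projective_lifting_property (KaehlerDifferential.map S R P P) LinearMap.id
    (KaehlerDifferential.map_surjective S R P)
  let e := (hex.splitSurjectiveEquiv hinj ⟨l, hl⟩).1
  exact ⟨(((b.baseChange P).prod b').map e.symm).reindex finSumFinEquiv⟩

/-- Localising base and algebra. -/
theorem formallySmooth_and_basis_of_localization (B A S R : Type u) [CommRing B] [CommRing A] [CommRing S]
    [CommRing R] [Algebra B A] [Algebra B S] [Algebra A R] [Algebra B R] [Algebra S R] [IsScalarTower B A R]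
    [IsScalarTower B S R] (M : Submonoid B) [IsLocalization M S] (N : Submonoid A) [IsLocalization N R]
    [Algebra.FormallySmooth B A] {n : ℕ} (b : Module.Basis (Fin n) A (KaehlerDifferential B A)) :
    Algebra.FormallySmooth S R ∧ Nonempty (Module.Basis (Fin n) R (KaehlerDifferential S R)) := by
  haveI : Algebra.FormallyEtale A R := .of_isLocalization N
  haveI : Algebra.FormallyEtale B S := .of_isLocalization M
  haveI : Algebra.FormallySmooth B R := .comp B A R
  refine ⟨Algebra.FormallySmooth.localization_base (Rₘ := S) M, ?_⟩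
  let b' := (b.baseChange R).map (KaehlerDifferential.tensorKaehlerEquivOfFormallyEtale B A R)
  let m : KaehlerDifferential B R →ₗ[R] KaehlerDifferential S R := KaehlerDifferential.map B S R R
  have hm : Function.Bijective m := by
    refine ⟨(injective_iff_map_eq_zero _).2 fun t ht => ?_, KaehlerDifferential.map_surjective B S R⟩
    obtain ⟨t', rfl⟩ := (KaehlerDifferential.exact_mapBaseChange_map B S R t).1 ht
    rw [Subsingleton.elim t' 0, map_zero]
  exact ⟨b'.map (LinearEquiv.ofBijective m hm)⟩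

/-- A map of local rings over a surjection, both local rings being localisations. -/
theorem surjective_and_ker_of_localization {A A' L L' : Type u} [CommRing A] [CommRing A'] [CommRing L] [CommRing L']
    [Algebra A L] [Algebra A' L'] (m : A →+* A') (hm : Function.Surjective m) (M' : Submonoid A')
    [IsLocalization (M'.comap m) L] [IsLocalization M' L'] (θ : L →+* L')
    (h : θ.comp (algebraMap A L) = (algebraMap A' L').comp m) :
    Function.Surjective θ ∧ RingHom.ker θ = (RingHom.ker m).map (algebraMap A L) := by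
  have h' : ∀ a, θ (algebraMap A L a) = algebraMap A' L' (m a) := fun a => RingHom.congr_fun h a
  refine ⟨fun y => ?_, le_antisymm (fun x hx => ?_) (Ideal.map_le_iff_le_comap.2 fun a ha => ?_)⟩
  · obtain ⟨a, ⟨s, hs⟩, rfl⟩ := IsLocalization.exists_mk'_eq M' y
    obtain ⟨a', rfl⟩ := hm a
    obtain ⟨s', rfl⟩ := hm s
    refine ⟨IsLocalization.mk' L a' (⟨s', hs⟩ : M'.comap m), ?_⟩
    rw [IsLocalization.eq_mk'_iff_mul_eq, ← h', ← map_mul, IsLocalization.mk'_spec, h']
  · obtain ⟨a, s, rfl⟩ := IsLocalization.exists_mk'_eq (M'.comap m) x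
    rw [IsLocalization.mk'_mem_iff]
    have h0 : θ (algebraMap A L a) = 0 := by
      rw [← IsLocalization.mk'_spec L a s, map_mul, show θ (IsLocalization.mk' L a s) = 0 from hx, zero_mul]
    rw [h', IsLocalization.map_eq_zero_iff M'] at h0
    obtain ⟨⟨t, ht⟩, hta⟩ := h0
    obtain ⟨t', rfl⟩ := hm t
    refine (Ideal.unit_mul_mem_iff_mem _ (IsLocalization.map_units L (⟨t', ht⟩ : M'.comap m))).1 ?_
    rw [← map_mul]
    exact Ideal.mem_map_of_mem _ (by rw [RingHom.mem_ker, map_mul]; exact hta)
  · rw [Ideal.mem_comap, RingHom.mem_ker, h', show m a = 0 from ha, map_zero]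

/-- `H₁`-regular generators of a Koszul regular ideal in a local ring. -/
theorem exists_h1_gen {A L : Type u} [CommRing A] [CommRing L] [Algebra A L] {I : Ideal A}
    (hI : LCI.IsKoszulRegularIdeal I) (p : Ideal A) [p.IsPrime] (hp : I ≤ p) [IsLocalization.AtPrime L p] :
    ∃ (c : ℕ) (g : Fin c → L), CAlgX.IsH1Regular g ∧ I.map (algebraMap A L) = Ideal.span (Set.range g) := by
  obtain ⟨s, hs, l, hl, hspan⟩ := (CI2.isKR_iff I).1 hI ⟨p, inferInstance⟩ hp
  let G := Localization.Away s
  have hu : IsUnit (algebraMap A L s) := IsLocalization.map_units L (⟨s, hs⟩ : p.primeCompl)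
  let ρ : G →+* L := IsLocalization.Away.lift s hu
  have hρ : ρ.comp (algebraMap A G) = algebraMap A L := IsLocalization.Away.lift_comp s hu
  letI : Algebra G L := ρ.toAlgebra
  haveI : IsScalarTower A G L := IsScalarTower.of_algebraMap_eq' hρ.symm
  haveI : Module.Flat A L := IsLocalization.flat L p.primeCompl
  haveI : Module.Flat G L := (Module.flat_iff_of_isLocalization G (Submonoid.powers s) L).2 inferInstance
  refine ⟨l.length, fun k => algebraMap G L (l.get k),
    RegSeq26.isH1Regular_of_flat (Cyc26.isH1Regular_of_isKoszulRegularSeq l ((CI2.isKoszulRegularSeq_iff_ex l).2 hl)), ?_⟩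
  rw [Set.range_comp' (algebraMap G L) l.get, Set.range_list_get, ← Ideal.map_span,
    show Ideal.span {x | x ∈ l} = I.map (algebraMap A G) from hspan.symm, Ideal.map_map,
    ← IsScalarTower.algebraMap_eq]

end Groth.Agent.SyntRank2
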