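import Groth.Agent.Lib.Omega12.SmoothRank
import Groth.Agent.Lib.CotStable1.Basic
import Groth.Agent.Lib.CurveCoh17.Bases
import Groth.Agent.Lib.Conormal2.Incl
import Groth.Prelude.Def_FlatMod2
import Mathlib.RingTheory.Etale.Kaehler
import Mathlib.RingTheory.Smooth.Kaehler
import Mathlib.RingTheory.Smooth.StandardSmoothCotangent

/-!
The local rings of a factorisation through a smooth morphism as a formally smooth extension, with the ranks of
its two cotangent modules read off the sheaves.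
-/

set_option autoImplicit false
set_option backward.isDefEq.respectTransparency.types false
set_option linter.style.haveILetI false
universe u

open CategoryTheory CategoryTheory.Limits AlgebraicGeometry Opposite TensorProduct

namespace Groth.Agent.SyntRank2

noncomputable def rsEquiv {X : Scheme.{u}} (F : X.Modules) (U : X.Opens) (z : (U : Scheme.{u})) :
    (F.restrict U.ι).presheaf.stalk z ≃+ F.presheaf.stalk z.1 :=
  ((Scheme.Modules.restrictStalkNatIso U.ι z).app F).addCommGroupIsoToAddEquiv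

theorem rsEquiv_smul {X : Scheme.{u}} (F : X.Modules) (U : X.Opens) (z : (U : Scheme.{u}))
    (a : (U : Scheme.{u}).presheaf.stalk z) (v : (F.restrict U.ι).presheaf.stalk z) :
    rsEquiv F U z (a • v) = (U.stalkIso z).hom a • rsEquiv F U z v := by
  let e := rsEquiv F U z
  obtain ⟨W, hW, r, rfl⟩ := (U : Scheme.{u}).presheaf.exists_germ_eq a
  obtain ⟨W', hW', m, rfl⟩ := (F.restrict U.ι).presheaf.exists_germ_eq v
  have key : ∀ (V : (U : Scheme.{u}).Opens) (hV : z ∈ V) (t : Γ(F.restrict U.ι, V)),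
      e ((F.restrict U.ι).presheaf.germ V z hV t) =
        F.presheaf.germ (U.ι ''ᵁ V) z.1 ⟨z, hV, rfl⟩ ((F.restrictAppIso U.ι V).hom t) := fun V hV t =>
    ConcreteCategory.congr_hom (Scheme.Modules.germ_restrictStalkNatIso_hom_app U.ι z F hV) t
  have hstalk : ∀ (V : (U : Scheme.{u}).Opens) (hV : z ∈ V) (t : Γ((U : Scheme.{u}), V)),
      (U.stalkIso z).hom ((U : Scheme.{u}).presheaf.germ V z hV t) =
        X.presheaf.germ (U.ι ''ᵁ V) z.1 ⟨z, hV, rfl⟩ (show Γ(X, U.ι ''ᵁ V) from t) := fun V hV t =>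
    ConcreteCategory.congr_hom (Scheme.Opens.germ_stalkIso_hom U z hV) t
  show e _ = _ • e _
  rw [← TopCat.Presheaf.germ_res_apply (U : Scheme.{u}).presheaf (homOfLE (inf_le_left : W ⊓ W' ≤ W)) z ⟨hW, hW'⟩ r,
    ← TopCat.Presheaf.germ_res_apply (F.restrict U.ι).presheaf (homOfLE (inf_le_right : W ⊓ W' ≤ W')) z ⟨hW, hW'⟩ m,
    ← M1.germ_smul, key, key, hstalk, ← M1.germ_smul]
  congr 1
  exact M1.restrict_ι_smul (M := F) _ _

/-- The stalk of a module free of rank `n` near a point. -/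
theorem nonempty_stalk_equiv_of_restrict {X : Scheme.{u}} {n : ℕ} {F : X.Modules} {U : X.Opens}
    (hF : FlatMod.IsFinLocFreeOfRank n ((Scheme.Modules.restrictFunctor U.ι).obj F)) {x : X} (hx : x ∈ U) :
    Nonempty ((F.presheaf.stalk x : Type u) ≃ₗ[X.presheaf.stalk x] (Fin n → X.presheaf.stalk x)) := by
  let zU : (U : Scheme.{u}) := ⟨x, hx⟩
  obtain ⟨L⟩ := CurveCoh17.nonempty_stalk_equiv hF zU
  let σ : (U : Scheme.{u}).presheaf.stalk zU ≃+* X.presheaf.stalk x := (U.stalkIso zU).commRingCatIsoToRingEquiv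
  let e := rsEquiv F U zU
  let Φ : (Fin n → X.presheaf.stalk x) ≃+ (F.presheaf.stalk x : Type u) :=
    ((AddEquiv.piCongrRight fun _ => σ.symm.toAddEquiv).trans L.symm.toAddEquiv).trans e
  refine ⟨(Φ.toLinearEquiv fun c v => ?_).symm⟩
  show e (L.symm (fun i => σ.symm (c • v i))) = c • e (L.symm fun i => σ.symm (v i))
  have h1 : (fun i => σ.symm (c • v i)) = σ.symm c • fun i => σ.symm (v i) := funext fun i => map_mul σ.symm c (v i)
  rw [h1, map_smul]
  exact (rsEquiv_smul F U zU _ _).trans (congrArg (· • _) (σ.apply_symm_apply c))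

/-- The map `S ⊗ ker → ker / ker²`. -/
theorem nonempty_tensor_ker_equiv_cotangent {R S : Type u} [CommRing R] [CommRing S] [Algebra R S]
    (P : Algebra.Extension.{u} R S) : Nonempty (S ⊗[P.Ring] P.ker ≃ₗ[S] P.Cotangent) := by
  refine ⟨LinearEquiv.ofBijective (LinearMap.liftBaseChange S Algebra.Extension.Cotangent.mk) ⟨?_, fun y => ?_⟩⟩
  · refine (injective_iff_map_eq_zero _).2 fun t ht => ?_
    obtain ⟨m, rfl⟩ := TensorProduct.mk_surjective P.Ring P.ker S P.algebraMap_surjective t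
    rw [TensorProduct.mk_apply, LinearMap.liftBaseChange_tmul, one_smul, Algebra.Extension.Cotangent.mk_eq_zero_iff] at ht
    have hm : m ∈ P.ker • (⊤ : Submodule P.Ring P.ker) := by
      rw [Submodule.mem_smul_top_iff]; rwa [smul_eq_mul, ← pow_two]
    rw [TensorProduct.mk_apply]
    refine Submodule.smul_induction_on hm (fun r hr n _ => ?_) (fun a b ha hb => ?_)
    · rw [tmul_smul, ← algebraMap_smul S r, show algebraMap P.Ring S r = 0 from hr, zero_smul]
    · rw [tmul_add, ha, hb, add_zero]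
  · obtain ⟨m, rfl⟩ := Algebra.Extension.Cotangent.mk_surjective y
    exact ⟨1 ⊗ₜ m, by rw [LinearMap.liftBaseChange_tmul, one_smul]⟩

/-- The local ring of a smooth scheme over the local ring of its image. -/
theorem exists_basis_kaehler_stalk {V Y : Scheme.{u}} (g : V ⟶ Y) [Smooth g] (v : V) :
    ∃ n : ℕ, FlatMor.fibreDimAt g v = (n : WithBot ℕ∞) ∧
      letI := (g.stalkMap v).hom.toAlgebra
      Algebra.FormallySmooth (Y.presheaf.stalk (g v)) (V.presheaf.stalk v) ∧
        Nonempty (Module.Basis (Fin n) (V.presheaf.stalk v)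
          (KaehlerDifferential (Y.presheaf.stalk (g v)) (V.presheaf.stalk v))) := by
  obtain ⟨W, hW, U, hU, hvU, hle, hs⟩ := Smooth.exists_isStandardSmooth g v
  letI algBA := (g.appLE W U hle).hom.toAlgebra
  haveI : Algebra.IsStandardSmooth Γ(Y, W) Γ(V, U) := hs
  obtain ⟨ι, σ, _, _, ⟨P⟩⟩ := Algebra.IsStandardSmooth.out (R := Γ(Y, W)) (S := Γ(V, U))
  haveI hn : Algebra.IsStandardSmoothOfRelativeDimension P.dimension Γ(Y, W) Γ(V, U) :=
    ⟨ι, σ, inferInstance, inferInstance, P, rfl⟩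
  refine ⟨P.dimension, Omega12.fibreDimAt_of_chart P.dimension g v hW hU hvU hle hn, ?_⟩
  let R := V.presheaf.stalk v
  let S := Y.presheaf.stalk (g v)
  letI algSR : Algebra S R := (g.stalkMap v).hom.toAlgebra
  letI : Algebra Γ(V, U) R := V.presheaf.algebra_section_stalk (⟨v, hvU⟩ : U)
  haveI : IsLocalization.AtPrime R (hU.primeIdealOf ⟨v, hvU⟩).asIdeal := hU.isLocalization_stalk ⟨v, hvU⟩
  have hgv : g v ∈ W := hle hvU
  letI : Algebra Γ(Y, W) S := Y.presheaf.algebra_section_stalk (⟨g v, hgv⟩ : W)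
  haveI : IsLocalization.AtPrime S (hW.primeIdealOf ⟨g v, hgv⟩).asIdeal := hW.isLocalization_stalk ⟨g v, hgv⟩
  letI : Algebra Γ(Y, W) R := ((algebraMap Γ(V, U) R).comp (algebraMap Γ(Y, W) Γ(V, U))).toAlgebra
  haveI : IsScalarTower Γ(Y, W) Γ(V, U) R := IsScalarTower.of_algebraMap_eq' rfl
  haveI : IsScalarTower Γ(Y, W) S R := IsScalarTower.of_algebraMap_eq fun b => by
    show V.presheaf.germ U v hvU ((g.appLE W U hle).hom b) = (g.stalkMap v).hom (Y.presheaf.germ W (g v) hgv b)
    rw [Scheme.Hom.germ_stalkMap_apply, Scheme.Hom.appLE, CommRingCat.hom_comp, RingHom.comp_apply]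
    exact TopCat.Presheaf.germ_res_apply _ _ _ _ _
  haveI : Algebra.FormallyEtale Γ(V, U) R := .of_isLocalization (hU.primeIdealOf ⟨v, hvU⟩).asIdeal.primeCompl
  haveI : Algebra.FormallyEtale Γ(Y, W) S := .of_isLocalization (hW.primeIdealOf ⟨g v, hgv⟩).asIdeal.primeCompl
  haveI : Algebra.FormallySmooth Γ(Y, W) R := .comp Γ(Y, W) Γ(V, U) R
  refine ⟨Algebra.FormallySmooth.localization_base (Rₘ := S) (hW.primeIdealOf ⟨g v, hgv⟩).asIdeal.primeCompl, ?_⟩
  haveI : Nonempty (U : Scheme.{u}) := ⟨⟨v, hvU⟩⟩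
  haveI : Nontrivial Γ(V, U) := Scheme.component_nontrivial V U
  haveI : Algebra.IsStandardSmooth Γ(Y, W) Γ(V, U) := hs
  have hr : Module.rank Γ(V, U) (KaehlerDifferential Γ(Y, W) Γ(V, U)) = P.dimension :=
    Algebra.IsStandardSmoothOfRelativeDimension.rank_kaehlerDifferential P.dimension
  let b := Module.finBasisOfFinrankEq Γ(V, U) (KaehlerDifferential Γ(Y, W) Γ(V, U)) (Module.finrank_eq_of_rank_eq hr)
  let b' : Module.Basis (Fin P.dimension) R (KaehlerDifferential Γ(Y, W) R) :=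
    (b.baseChange R).map (KaehlerDifferential.tensorKaehlerEquivOfFormallyEtale Γ(Y, W) Γ(V, U) R)
  let m : KaehlerDifferential Γ(Y, W) R →ₗ[R] KaehlerDifferential S R := KaehlerDifferential.map Γ(Y, W) S R R
  have hm : Function.Bijective m := by
    refine ⟨(injective_iff_map_eq_zero _).2 fun t ht => ?_, ?_⟩
    · obtain ⟨t', rfl⟩ := (KaehlerDifferential.exact_mapBaseChange_map Γ(Y, W) S R t).1 ht
      rw [Subsingleton.elim t' 0, map_zero]
    · exact KaehlerDifferential.map_surjective Γ(Y, W) S R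
  exact ⟨b'.map (LinearEquiv.ofBijective m hm)⟩

/-- A closed subscheme of a smooth scheme at a point: the extension, and the ranks of its cotangent modules. -/
theorem exists_extension {X V Y : Scheme.{u}} (f : X ⟶ Y) (g : V ⟶ Y) [Smooth g] (i : X ⟶ V) [IsImmersion i]
    [QuasiCompact i] (hi : i ≫ g = f) {Ω : V.Modules} {d : OmegaSh.Der g Ω} (hd : OmegaSh.IsUniversal d)
    (x : X) {a b : ℕ} {U₁ U₂ : X.Opens} (h₁ : x ∈ U₁) (h₂ : x ∈ U₂)
    (ha : FlatMod.IsFinLocFreeOfRank a ((Scheme.Modules.restrictFunctor U₁.ι).obj ((Scheme.Modules.pullback i).obj Ω)))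
    (hb : FlatMod.IsFinLocFreeOfRank b ((Scheme.Modules.restrictFunctor U₂.ι).obj (Omega.conormal i))) :
    letI := (f.stalkMap x).hom.toAlgebra
    ∃ E : Algebra.Extension.{u} (Y.presheaf.stalk (f x)) (X.presheaf.stalk x),
      Algebra.FormallySmooth (Y.presheaf.stalk (f x)) E.Ring ∧
      Nonempty (E.CotangentSpace ≃ₗ[X.presheaf.stalk x] (Fin a → X.presheaf.stalk x)) ∧
      Nonempty (E.Cotangent ≃ₗ[X.presheaf.stalk x] (Fin b → X.presheaf.stalk x)) := by
  subst hi
  letI algSQ := ((i ≫ g).stalkMap x).hom.toAlgebra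
  obtain ⟨n, hn, hsm, ⟨bΩ⟩⟩ := exists_basis_kaehler_stalk g (i x)
  letI algSR : Algebra (Y.presheaf.stalk ((i ≫ g) x)) (V.presheaf.stalk (i x)) := (g.stalkMap (i x)).hom.toAlgebra
  let α : (V.presheaf.stalk (i x)) →ₐ[Y.presheaf.stalk ((i ≫ g) x)] (X.presheaf.stalk x) :=
    { (i.stalkMap x).hom with
      commutes' := fun r => by
        show (i.stalkMap x).hom ((g.stalkMap (i x)).hom r) = ((i ≫ g).stalkMap x).hom r
        rw [Scheme.Hom.stalkMap_comp]; rfl }
  let E : Algebra.Extension.{u} (Y.presheaf.stalk ((i ≫ g) x)) (X.presheaf.stalk x) :=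
    Algebra.Extension.ofSurjective α (i.stalkMap_surjective x)
  -- `n = a`
  obtain ⟨W, n', hW, ⟨eW⟩, hn'⟩ := Omega12.exists_free_nbhd_smooth g hd (i x)
  obtain rfl : n' = n := by
    have h := hn'.symm.trans hn
    exact_mod_cast h
  obtain ⟨LΩ⟩ := nonempty_stalk_equiv_of_restrict (F := Ω)
    (M2.isFinLocFreeOfRank_of_iso eW.symm (M2.isFinLocFreeOfRank_freeMod _ n')) hW
  obtain ⟨La⟩ := nonempty_stalk_equiv_of_restrict ha h₁
  let eA : (Fin n' → X.presheaf.stalk x) ≃ₗ[X.presheaf.stalk x] (Fin a → X.presheaf.stalk x) :=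
    (((Module.Basis.ofEquivFun LΩ).baseChange (X.presheaf.stalk x)).map
      (M2.pullStalkEquiv i x Ω)).equivFun.symm.trans La
  obtain ⟨Lb⟩ := nonempty_stalk_equiv_of_restrict hb h₂
  refine ⟨E, hsm, ⟨((bΩ.baseChange (X.presheaf.stalk x)).equivFun).trans eA⟩, ?_⟩
  let K : Ideal (V.presheaf.stalk (i x)) := RingHom.ker (i.stalkMap x).hom
  let incl' : ((ClSub.idealMod i.ker).presheaf.stalk (i x) : Type u) ≃ₗ[V.presheaf.stalk (i x)] K :=
    LinearEquiv.ofBijective ((Conormal2.incl i (i x)).codRestrict K (Conormal2.incl_mem_ker i x))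
      ⟨fun m m' h => Conormal2.incl_injective i (i x) (congrArg Subtype.val h), fun t => by
        obtain ⟨m, hm⟩ := Conormal2.exists_incl_eq i x t.1 t.2
        exact ⟨m, Subtype.ext hm⟩⟩
  obtain ⟨eC⟩ := nonempty_tensor_ker_equiv_cotangent E
  exact ⟨eC.symm.trans ((TensorProduct.AlgebraTensorModule.congr
    (LinearEquiv.refl (X.presheaf.stalk x) (X.presheaf.stalk x)) incl'.symm).trans
    ((M2.pullStalkEquiv i x (ClSub.idealMod i.ker)).trans Lb))⟩

/-- Two formally smooth extensions with free cotangent modules have the same Euler characteristic. -/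
theorem sub_eq_of_extensions {R S : Type u} [CommRing R] [CommRing S] [Nontrivial S] [Algebra R S]
    (P Q : Algebra.Extension.{u} R S) [Algebra.FormallySmooth R P.Ring] [Algebra.FormallySmooth R Q.Ring]
    {a b a' b' : ℕ} (eP : P.CotangentSpace ≃ₗ[S] (Fin a → S)) (eP' : P.Cotangent ≃ₗ[S] (Fin b → S))
    (eQ : Q.CotangentSpace ≃ₗ[S] (Fin a' → S)) (eQ' : Q.Cotangent ≃ₗ[S] (Fin b' → S)) :
    (a : ℤ) - b = (a' : ℤ) - b' := by
  haveI : Module.Projective S Q.CotangentSpace := Module.Projective.of_equiv eQ.symm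
  obtain ⟨e⟩ := CotStable1.nonempty_cotangent_prod P Q
  have h := (((eP'.prodCongr eQ).symm.trans e).trans (eQ'.prodCongr eP)).finrank_eq
  rw [Module.finrank_prod, Module.finrank_prod, Module.finrank_fin_fun, Module.finrank_fin_fun,
    Module.finrank_fin_fun, Module.finrank_fin_fun] at h
  omega

end Groth.Agent.SyntRank2
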