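import Groth.Agent.Lib.CI2.NLPerf
import Groth.Agent.Lib.CI2.RImm
import Groth.Agent.Lib.DPerf.Tilde
import Groth.Agent.Lib.DPerf.Top
import Groth.Agent.Lib.ModM1.LocFree
import Groth.Agent.Lib.GrMap12.GrBC
import Groth.Agent.Lib.SyntRank2.Basic

/-!
The conormal sheaf of a Koszul regular closed immersion is finite locally free.
-/

set_option autoImplicit false
set_option backward.isDefEq.respectTransparency false
set_option backward.isDefEq.respectTransparency.types false
set_option linter.style.haveILetI false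

universe u

open TensorProduct CategoryTheory AlgebraicGeometry TopologicalSpace

namespace Groth.Agent.SyntRank2

theorem isFinLocFree_conormal_of_koszul {X X' : Scheme.{u}} (i : X ⟶ X') [IsClosedImmersion i]
    (hi : RegImm.IsRegularImmersion .koszul i) : FlatMod.IsFinLocFree (Omega.conormal i) := by
  refine DPerf.isFinLocFree_of_locally fun x => ?_
  obtain ⟨V', hV', hxV', -⟩ := exists_isAffineOpen_mem_and_subset (X := X') (x := i x) (U := ⊤) trivial
  obtain ⟨hV, hs⟩ := CI2.surjective_app_of_closed i hV'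
  refine ⟨_, hV.fromSpec, inferInstance, by rw [hV.range_fromSpec]; exact hxV', ?_⟩
  let B' := Γ(X', V')
  let B := Γ(X, i ⁻¹ᵁ V')
  letI : Algebra B' B := (i.appLE V' (i ⁻¹ᵁ V') le_rfl).hom.toAlgebra
  have he : algebraMap B' B = (i.app V').hom := congrArg CommRingCat.Hom.hom i.appLE_eq_app
  let N := Omega.conormal i
  have hN : Coh.IsQCoh N := M1.isQCoh_pullback i (M2.isQCoh_idealMod _)
  letI : Module B' Γ(N, i ⁻¹ᵁ V') := PullBC11.baseModule (g := i) N (U := V') (V := i ⁻¹ᵁ V') le_rfl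
  haveI : IsScalarTower B' B Γ(N, i ⁻¹ᵁ V') := IsScalarTower.of_algebraMap_smul fun _ _ => rfl
  let s₁ : Γ(ClSub.idealMod i.ker, V') →ₗ[B'] Γ(N, i ⁻¹ᵁ V') :=
    PullBC11.sect (PP12.unitTo i (ClSub.idealMod i.ker)) (le_refl (i ⁻¹ᵁ V'))
  have hs₁ : IsBaseChange B s₁ := PP12.isBC_unit i (M2.isQCoh_idealMod i.ker) hV' hV (le_refl (i ⁻¹ᵁ V'))
  let E : Algebra.Extension.{u} B' B := Algebra.Extension.ofSurjective (Algebra.ofId B' B) (fun b => by
    obtain ⟨a, ha⟩ := hs b
    exact ⟨a, (RingHom.congr_fun he a).trans ha⟩)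
  have hker : RingHom.ker (algebraMap B' B) = RingHom.ker (i.app V').hom := by rw [he]
  obtain ⟨h1, h2⟩ := CI2.finite_projective_extCotangent B' B E (by
    show LCI.IsKoszulRegularIdeal (RingHom.ker (algebraMap B' B))
    rw [hker]
    exact CI2.isKR_of_isRegularImmersion i hi hV')
  let K : Ideal B' := RingHom.ker (algebraMap B' B)
  have hr : LinearMap.range (GrMap12.inclLin i.ker V') = K := by
    rw [GrMap12.range_inclLin _ ⟨V', hV'⟩, Scheme.Hom.ker_apply]
    exact hker.symm
  let eI : Γ(ClSub.idealMod i.ker, V') ≃ₗ[B'] K :=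
    (LinearEquiv.ofInjective (GrMap12.inclLin i.ker V') (M2.idealIncl_injective _ _)).trans (LinearEquiv.ofEq _ _ hr)
  obtain ⟨eC⟩ := nonempty_tensor_ker_equiv_cotangent E
  let e : B ⊗[B'] Γ(ClSub.idealMod i.ker, V') ≃ₗ[B] E.Cotangent :=
    (TensorProduct.AlgebraTensorModule.congr (LinearEquiv.refl B B) eI).trans eC
  haveI : (N.restrict hV.fromSpec).IsQuasicoherent := M1.isQCoh_fromSpec hN hV
  let L := moduleSpecΓFunctor.obj (N.restrict hV.fromSpec)
  let eL : L ≃ₗ[B] Γ(N, i ⁻¹ᵁ V') := M1.affineSecEquiv N hV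
  haveI : Module.Finite B L := Module.Finite.equiv (e.symm.trans (hs₁.equiv.trans eL.symm))
  haveI : Module.Projective B L := Module.Projective.of_equiv (e.symm.trans (hs₁.equiv.trans eL.symm))
  exact M2.isFinLocFree_of_iso
    (@asIso _ _ _ _ (N.restrict hV.fromSpec).fromTildeΓ
      (Scheme.Modules.isIso_fromTildeΓ_of_isQuasicoherent (R := Γ(X, i ⁻¹ᵁ V')) _))
    (DPerf.isFinLocFree_tilde (M := L))

end Groth.Agent.SyntRank2
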