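import Mathlib.Algebra.Homology.Double
import Mathlib.Algebra.Homology.HomologySequenceLemmas
import Mathlib.Algebra.Homology.HomologicalComplexAbelian
import Mathlib.Algebra.Homology.DerivedCategory.Basic

/-!
Quasi-isomorphisms of two term complexes.
-/

set_option autoImplicit false
universe w v u

open CategoryTheory CategoryTheory.Limits HomologicalComplex

namespace Groth.Agent.SyntRank2

variable {C : Type u} [Category.{v} C] [Abelian C]

theorem rel_m1 : (ComplexShape.up ℤ).Rel (-1 : ℤ) 0 := neg_add_cancel (1 : ℤ)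

theorem m1_ne : (-1 : ℤ) ≠ 0 := by decide

/-- A morphism of two term complexes in degrees `-1, 0`. -/
noncomputable def doubleMap {A B A' B' : C} (f : A ⟶ B) (f' : A' ⟶ B') (a : A ⟶ A') (b : B ⟶ B')
    (w : a ≫ f' = f ≫ b) : double f rel_m1 ⟶ double f' rel_m1 :=
  mkHomFromDouble rel_m1 m1_ne (a ≫ (doubleXIso₀ f' rel_m1).inv)
    (b ≫ (doubleXIso₁ f' rel_m1 m1_ne).inv)
    (by
      rw [double_d f' rel_m1 m1_ne, Category.assoc, Iso.inv_hom_id_assoc, ← Category.assoc,
        ← Category.assoc, w])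
    (fun k hk => by
      rw [double_d_eq_zero₀ f' rel_m1 0 k (by decide), comp_zero])

/-- The identity two term complex is acyclic. -/
theorem acyclic_double_id (A : C) : (double (𝟙 A) rel_m1).Acyclic := by
  intro n
  by_cases h0 : n = -1
  · subst h0
    rw [exactAt_iff' _ (-2) (-1) 0 (by simp) (by simp)]
    refine (ShortComplex.exact_iff_mono _ (double_d_eq_zero₀ (𝟙 A) rel_m1 _ _ (by decide))).2 ?_
    show Mono ((double (𝟙 A) rel_m1).d (-1) 0)
    rw [double_d (𝟙 A) rel_m1 m1_ne]
    infer_instance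
  · by_cases h1 : n = 0
    · subst h1
      rw [exactAt_iff' _ (-1) 0 1 (by simp) (by simp)]
      refine (ShortComplex.exact_iff_epi _ (double_d_eq_zero₀ (𝟙 A) rel_m1 _ _ (by decide))).2 ?_
      show Epi ((double (𝟙 A) rel_m1).d (-1) 0)
      rw [double_d (𝟙 A) rel_m1 m1_ne]
      infer_instance
    · exact ShortComplex.exact_of_isZero_X₂ _ (isZero_double_X (𝟙 A) rel_m1 n h0 h1)

theorem quasiIso_f_of_acyclic {S : ShortComplex (CochainComplex C ℤ)} (hS : S.ShortExact) (h : S.X₃.Acyclic) :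
    QuasiIso S.f := by
  rw [quasiIso_iff]
  intro i
  rw [quasiIsoAt_iff_isIso_homologyMap]
  have hz : ∀ j, IsZero (S.X₃.homology j) := fun j => (exactAt_iff_isZero_homology _ j).1 (h j)
  haveI : Mono (homologyMap S.f i) :=
    (hS.homology_exact₁ (i - 1) i (by simp)).mono_g ((hz (i - 1)).eq_of_src _ _)
  haveI : Epi (homologyMap S.f i) := (hS.homology_exact₂ i).epi_f ((hz i).eq_of_tgt _ _)
  exact isIso_of_mono_of_epi _

/-- A map of two term complexes which is injective with equal cokernels is a quasi-isomorphism. -/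
theorem quasiIso_doubleMap {A B A' B' Q : C} (f : A ⟶ B) (f' : A' ⟶ B') (a : A ⟶ A') (b : B ⟶ B')
    (w : a ≫ f' = f ≫ b) (p : A' ⟶ Q) (q : B' ⟶ Q) (hpq : f' ≫ q = p)
    (wa : a ≫ p = 0) (wb : b ≫ q = 0) (ha : (ShortComplex.mk a p wa).ShortExact)
    (hb : (ShortComplex.mk b q wb).ShortExact) : QuasiIso (doubleMap f f' a b w) := by
  let β := doubleMap f' (𝟙 Q) p q (by rw [Category.comp_id, hpq])
  have hw : doubleMap f f' a b w ≫ β = 0 := by
    apply from_double_hom_ext
    · simp [doubleMap, β, reassoc_of% wa]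
    · simp [doubleMap, β, reassoc_of% wb]
  let S : ShortComplex (CochainComplex C ℤ) := ShortComplex.mk _ _ hw
  have hS : S.ShortExact := by
    refine shortExact_of_degreewise_shortExact S fun n => ?_
    by_cases h0 : n = -1
    · subst h0
      refine ShortComplex.shortExact_of_iso (ShortComplex.isoMk (doubleXIso₀ f rel_m1).symm (doubleXIso₀ f' rel_m1).symm
        (doubleXIso₀ (𝟙 Q) rel_m1).symm ?_ ?_) ha
      · simp [S, doubleMap]; exact Iso.inv_hom_id_assoc _ _
      · simp [S, β, doubleMap]; exact Iso.inv_hom_id_assoc _ _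
    · by_cases h1 : n = 0
      · subst h1
        refine ShortComplex.shortExact_of_iso (ShortComplex.isoMk (doubleXIso₁ f rel_m1 m1_ne).symm
          (doubleXIso₁ f' rel_m1 m1_ne).symm (doubleXIso₁ (𝟙 Q) rel_m1 m1_ne).symm ?_ ?_) hb
        · simp [S, doubleMap]; exact Iso.inv_hom_id_assoc _ _
        · simp [S, β, doubleMap]; exact Iso.inv_hom_id_assoc _ _
      · exact { exact := ShortComplex.exact_of_isZero_X₂ _ (isZero_double_X f' rel_m1 n h0 h1)
                mono_f := ⟨fun x y _ => (isZero_double_X f rel_m1 n h0 h1).eq_of_tgt x y⟩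
                epi_g := ⟨fun x y _ => (isZero_double_X (𝟙 Q) rel_m1 n h0 h1).eq_of_src x y⟩ }
  exact quasiIso_f_of_acyclic hS (acyclic_double_id Q)

/-- The two complexes agree in the derived category. -/
theorem nonempty_iso_Q_of_doubleMap [HasDerivedCategory.{w} C] {A B A' B' Q : C} (f : A ⟶ B) (f' : A' ⟶ B')
    (a : A ⟶ A') (b : B ⟶ B')
    (w : a ≫ f' = f ≫ b) (p : A' ⟶ Q) (q : B' ⟶ Q) (hpq : f' ≫ q = p)
    (wa : a ≫ p = 0) (wb : b ≫ q = 0) (ha : (ShortComplex.mk a p wa).ShortExact)
    (hb : (ShortComplex.mk b q wb).ShortExact) :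
    Nonempty (DerivedCategory.Q.obj (double f rel_m1) ≅ DerivedCategory.Q.obj (double f' rel_m1)) := by
  haveI := quasiIso_doubleMap f f' a b w p q hpq wa wb ha hb
  exact ⟨asIso (DerivedCategory.Q.map (doubleMap f f' a b w))⟩

end Groth.Agent.SyntRank2
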